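import Mathlib.FieldTheory.Finite.Basic
import Cfsg.Agent.Lib.Subspaces.OrthSingular
import Cfsg.Agent.Lib.SubfieldMax.RatLin

/-!
Rational singular vectors and root-element identities for a quadratic form rational over a subfield.
-/

set_option autoImplicit false

namespace Cfsg.Agent.Lib.OmegaTen.Subfield.OrthBasic

open Matrix Cfsg.Agent.Lib.Subspaces.Transvection Cfsg.Agent.Lib.Subspaces.FormVec
  Cfsg.Agent.Lib.Subspaces.OrthForm Cfsg.Agent.Lib.Subspaces.OrthLines
  Cfsg.Agent.Lib.SubfieldMax.Linear Cfsg.Agent.Lib.SubfieldMax.RatLin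

variable {ι : Type} [Fintype ι] [DecidableEq ι] {F : Type*} [Field F] {Q : (ι → F) → F}

local notation "B" => QuadraticMap.polar Q
local notation "Vec" => ι → F

/-- A non-zero singular vector orthogonal to `k` vectors outside a subspace. -/
theorem exists_sing [Finite F] (hQ : Cfsg.Geo.IsNondegenerateQuadraticForm Q) {k : ℕ}
    (s : Fin k → Vec) (T : Submodule F Vec) (h : k + Module.finrank F T + 3 ≤ Fintype.card ι) :
    ∃ v, Q v = 0 ∧ (∀ i, B v (s i) = 0) ∧ v ∉ T := by
  have hb := hQ.polar_bilinear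
  have hstep : ∀ T' : Submodule F Vec, k + Module.finrank F T' < Fintype.card ι →
      ∃ z, (∀ i, B z (s i) = 0) ∧ z ∉ T' := by
    intro T' h'
    obtain ⟨z, hz, hzs⟩ := exists_common_zero_not_mem T' (fun i => formVec B (s i)) h'
    exact ⟨z, fun i => by rw [← formVec_dot (bil hQ)]; exact hzs i, hz⟩
  have hgrow : ∀ (T' : Submodule F Vec) (z : Vec),
      Module.finrank F ↥(T' ⊔ Submodule.span F {z}) ≤ Module.finrank F T' + 1 := by
    intro T' z
    refine (Submodule.finrank_add_le_finrank_add_finrank _ _).trans ?_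
    have : Module.finrank F (Submodule.span F {z}) ≤ 1 := (finrank_span_le_card _).trans (by simp)
    omega
  obtain ⟨z1, hz1, hz1T⟩ := hstep T (by omega)
  obtain ⟨z2, hz2, hz2T⟩ := hstep (T ⊔ Submodule.span F {z1}) (by have := hgrow T z1; omega)
  obtain ⟨z3, hz3, hz3T⟩ := hstep (T ⊔ Submodule.span F {z1} ⊔ Submodule.span F {z2})
    (by have := hgrow T z1; have := hgrow (T ⊔ Submodule.span F {z1}) z2; omega)
  by_cases hq1 : Q z1 = 0
  · exact ⟨z1, hq1, hz1, hz1T⟩
  have hperp : ∀ a b c : F, ∀ i, B (a • z1 + b • z2 + c • z3) (s i) = 0 := fun a b c i => by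
    simp [hb.add_left, hb.smul_left, hz1, hz2, hz3]
  have hout : ∀ a b c : F, (b ≠ 0 ∨ c ≠ 0) → a • z1 + b • z2 + c • z3 ∉ T := by
    intro a b c hbc hmem
    have hmem' : a • z1 + b • z2 + c • z3 ∈ T ⊔ Submodule.span F {z1} := Submodule.mem_sup_left hmem
    have hz1' : a • z1 ∈ T ⊔ Submodule.span F {z1} :=
      Submodule.mem_sup_right (Submodule.smul_mem _ _ (Submodule.mem_span_singleton_self z1))
    have h23 : b • z2 + c • z3 ∈ T ⊔ Submodule.span F {z1} := by
      have := Submodule.sub_mem _ hmem' hz1'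
      rwa [add_assoc, add_sub_cancel_left] at this
    rcases eq_or_ne c 0 with rfl | hc
    · rw [zero_smul, add_zero] at h23
      exact hz2T ((Submodule.smul_mem_iff _ (hbc.resolve_right fun h => h rfl)).1 h23)
    · refine hz3T ((Submodule.smul_mem_iff _ hc).1 ?_)
      have := Submodule.sub_mem _
        (Submodule.mem_sup_left (T := Submodule.span F {z2}) h23)
        (Submodule.mem_sup_right (Submodule.smul_mem _ b (Submodule.mem_span_singleton_self z2)))
      rwa [add_sub_cancel_left] at this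
  have : Fintype F := Fintype.ofFinite F
  by_cases h2 : (2 : F) = 0
  · obtain ⟨b, c, hbc, hz'⟩ : ∃ b c : F, (b ≠ 0 ∨ c ≠ 0) ∧ B z1 (b • z2 + c • z3) = 0 := by
      by_cases h21 : B z1 z2 = 0
      · exact ⟨1, 0, Or.inl one_ne_zero, by simp [hb.add_right, hb.smul_right, h21]⟩
      · refine ⟨-(B z1 z3 / B z1 z2), 1, Or.inr one_ne_zero, ?_⟩
        rw [hb.add_right, hb.smul_right, hb.smul_right]
        field_simp
        ring
    have hc : ringChar F = 2 := ringChar.eq_iff.2 ((CharP.charP_iff_prime_eq_zero Nat.prime_two).2 h2)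
    obtain ⟨a, ha⟩ := FiniteField.isSquare_of_char_two hc (-Q (b • z2 + c • z3) / Q z1)
    refine ⟨a • z1 + b • z2 + c • z3, ?_, hperp a b c, hout a b c hbc⟩
    rw [add_assoc, Q_add (Q := Q), hQ.smul, hb.smul_left, hz', pow_two, ← ha, div_mul_cancel₀ _ hq1]
    ring
  · set t2 := -(B z1 z2 / (2 * Q z1)) with ht2
    set z2' := t2 • z1 + (1 : F) • z2 + (0 : F) • z3 with hz2'
    have h12 : B z1 z2' = 0 := by
      simp only [hz2', hb.add_right, hb.smul_right, B_self hQ, ht2]
      field_simp
      ring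
    by_cases hq2 : Q z2' = 0
    · exact ⟨z2', hq2, hperp _ _ _, hout _ _ _ (Or.inl one_ne_zero)⟩
    set t3 := -(B z1 z3 / (2 * Q z1))
    set s3 := -(B z2' z3 / (2 * Q z2'))
    have hz2'2 : B z2' z2' = 2 * Q z2' := B_self hQ _
    set z3' := z3 + t3 • z1 + s3 • z2'
    have h13 : B z1 z3' = 0 := by
      simp only [z3', t3, hb.add_right, hb.smul_right, B_self hQ, h12]
      field_simp
      ring
    have h23 : B z2' z3' = 0 := by
      simp only [z3', s3, hb.add_right, hb.smul_right, B_comm z2' z1, h12, hz2'2]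
      field_simp
      ring
    have hc : ringChar F ≠ 2 := fun e => h2 (by
      have : CharP F 2 := ringChar.eq_iff.mp e
      exact_mod_cast CharP.cast_eq_zero F 2)
    obtain ⟨a, b, hab⟩ : ∃ a b : F, Q z3' + Q z1 * a ^ 2 + Q z2' * b ^ 2 = 0 := by
      open Polynomial in
      obtain ⟨a, b, h⟩ := FiniteField.exists_root_sum_quadratic
        (f := C (Q z1) * X ^ 2 + C 0 * X + C (Q z3')) (g := C (Q z2') * X ^ 2 + C 0 * X + C 0)
        (degree_quadratic hq1) (degree_quadratic hq2) (FiniteField.odd_card_of_char_ne_two hc)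
      refine ⟨a, b, ?_⟩
      simp at h
      linear_combination h
    refine ⟨z3' + a • z1 + b • z2', ?_, fun i => ?_, ?_⟩
    · have e1 : B z3' z1 = 0 := by rw [B_comm]; exact h13
      have e2 : B (z3' + a • z1) z2' = 0 := by
        rw [hb.add_left, hb.smul_left, B_comm z3' z2', h23, h12]; ring
      rw [Q_add_smul hQ, Q_add_smul hQ, e1, e2]
      linear_combination hab
    · simp [z3', hz2', hb.add_left, hb.smul_left, hz1, hz2, hz3]
    · have : z3' + a • z1 + b • z2' = (t3 + a + (s3 + b) * t2) • z1 + (s3 + b) • z2 + (1 : F) • z3 := by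
        simp only [z3', hz2']
        module
      rw [this]
      exact hout _ _ _ (Or.inr one_ne_zero)

section Ident

theorem lsieg_smul (hQ : Cfsg.Geo.IsNondegenerateQuadraticForm Q) {a b : Vec} (ha : Q a = 0)
    (hb : Q b = 0) (hab : B a b = 0) (k : F) : sieg Q (k • a) b = sieg Q a (k • b) := by
  refine gl_ext fun x => ?_
  rw [lsieg_mulVec hQ (by rw [hQ.smul, ha, mul_zero]) hb (by rw [hQ.polar_bilinear.smul_left, hab, mul_zero]),
    lsieg_mulVec hQ ha (by rw [hQ.smul, hb, mul_zero]) (by rw [hQ.polar_bilinear.smul_right, hab, mul_zero]),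
    hQ.polar_bilinear.smul_right, hQ.polar_bilinear.smul_right]
  module

theorem lsieg_swap (hQ : Cfsg.Geo.IsNondegenerateQuadraticForm Q) {a b : Vec} (ha : Q a = 0)
    (hb : Q b = 0) (hab : B a b = 0) (k : F) : sieg Q a (k • b) = sieg Q b ((-k) • a) := by
  refine gl_ext fun x => ?_
  rw [lsieg_mulVec hQ ha (by rw [hQ.smul, hb, mul_zero]) (by rw [hQ.polar_bilinear.smul_right, hab, mul_zero]),
    lsieg_mulVec hQ hb (by rw [hQ.smul, ha, mul_zero])
      (by rw [hQ.polar_bilinear.smul_right, B_comm, hab, mul_zero]),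
    hQ.polar_bilinear.smul_right, hQ.polar_bilinear.smul_right]
  module

theorem sieg_self (hQ : Cfsg.Geo.IsNondegenerateQuadraticForm Q) {u : Vec} (hu : Q u = 0) (k : F) :
    sieg Q u (k • u) = 1 := by
  have huu : B u u = 0 := by rw [B_self hQ, hu, mul_zero]
  refine gl_ext fun x => ?_
  rw [lsieg_mulVec hQ hu (by rw [hQ.smul, hu, mul_zero]) (by rw [hQ.polar_bilinear.smul_right, huu, mul_zero]),
    hQ.polar_bilinear.smul_right, Units.val_one, one_mulVec]
  module

/-- The shift lemma: a commutator of Siegel elements with the same centre. -/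
theorem sieg_shift_mem (hQ : Cfsg.Geo.IsNondegenerateQuadraticForm Q) {M : Subgroup (GL ι F)}
    {u v : Vec} {h : GL ι F} (hh : h ∈ M) (hiso : ∀ x, Q ((h : Matrix ι ι F) *ᵥ x) = Q x)
    (hu : Q u = 0) (hvu : B v u = 0) (hfix : (h : Matrix ι ι F) *ᵥ u = u) (hs : sieg Q u v ∈ M) :
    sieg Q u ((h : Matrix ι ι F) *ᵥ v - v) ∈ M := by
  have hhv : B ((h : Matrix ι ι F) *ᵥ v) u = 0 := by
    rw [← hvu]
    conv_lhs => rw [← hfix]
    exact B_map hiso v u
  have h1 : sieg Q u ((h : Matrix ι ι F) *ᵥ v) ∈ M := by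
    have := conj_sieg hQ hiso hu hvu
    rw [hfix] at this
    rw [← this]
    exact M.mul_mem (M.mul_mem hh hs) (M.inv_mem hh)
  have h2 := sieg_add_right hQ hu (v := (h : Matrix ι ι F) *ᵥ v - v) (w := v)
    (by rw [form_sub_left (bil hQ), hhv, hvu, sub_self]) hvu
  rw [sub_add_cancel] at h2
  have h3 := M.mul_mem h1 (M.inv_mem hs)
  rwa [h2, mul_inv_cancel_right] at h3

end Ident

variable {F₀ : Subfield F}

/-- A non-degenerate quadratic form in dimension at least `13`, rational on rational vectors. -/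
structure Base (F₀ : Subfield F) (Q : (ι → F) → F) : Prop where
  quad : Cfsg.Geo.IsNondegenerateQuadraticForm Q
  rat : ∀ u, Rat F₀ u → Q u ∈ F₀
  card : 10 ≤ Fintype.card ι

namespace Base

variable (S : Base F₀ Q)
include S

theorem ratB {u v : Vec} (hu : Rat F₀ u) (hv : Rat F₀ v) : B u v ∈ F₀ :=
  sub_mem (sub_mem (S.rat _ fun i => add_mem (hu i) (hv i)) (S.rat u hu)) (S.rat v hv)

theorem rat_formVec {v : Vec} (hv : Rat F₀ v) : Rat F₀ (formVec B v) := fun i =>
  S.ratB (Rat.single i (one_mem _)) hv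

theorem rat_sieg {u w : Vec} (hu : Rat F₀ u) (hw : Rat F₀ w) (hu0 : Q u = 0) (hwu : B w u = 0) :
    ∀ i j, (sieg Q u w : Matrix ι ι F) i j ∈ F₀ := by
  have hone : ∀ i j, (1 : Matrix ι ι F) i j ∈ F₀ := fun i j => by
    by_cases h : i = j
    · subst h; rw [Matrix.one_apply_eq]; exact one_mem _
    · rw [Matrix.one_apply_ne h]; exact zero_mem _
  intro i j
  have hij : ((sieg Q u w : Matrix ι ι F) *ᵥ Pi.single j 1) i = (sieg Q u w : Matrix ι ι F) i j := by
    simp
  rw [← hij, sieg_mulVec S.quad hu0 hwu]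
  have he : Rat F₀ (Pi.single j (1 : F) : Vec) := Rat.single j (one_mem _)
  exact add_mem (add_mem (he i) (mul_mem (S.ratB he hu) (hw i)))
    (mul_mem (sub_mem (neg_mem (S.ratB he hw)) (mul_mem (S.rat w hw) (S.ratB he hu))) (hu i))

theorem isNondeg₀ : Cfsg.Geo.IsNondegenerateQuadraticForm
    (fun x : ι → F₀ => (⟨Q (raise x), S.rat _ (rat_raise x)⟩ : F₀)) := by
  have hb := S.quad.polar_bilinear
  have hadd : ∀ x y : ι → F₀, raise (x + y) = raise x + raise y := fun x y => funext fun i => rfl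
  have hsm : ∀ (c : F₀) (x : ι → F₀), raise (c • x) = (c : F) • raise x := fun c x => funext fun i => rfl
  have hpol : ∀ x y : ι → F₀,
      ((QuadraticMap.polar (fun x : ι → F₀ => (⟨Q (raise x), S.rat _ (rat_raise x)⟩ : F₀)) x y : F₀) : F) =
        B (raise x) (raise y) := fun x y => by simp [QuadraticMap.polar, hadd]
  refine ⟨fun c v => Subtype.ext (by simp [hsm, S.quad.smul]),
    ⟨fun x y v => Subtype.ext (by simp [hpol, hadd, hb.add_left]),
      fun c x v => Subtype.ext (by simp [hpol, hsm, hb.smul_left]),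
      fun v x y => Subtype.ext (by simp [hpol, hadd, hb.add_right]),
      fun c v x => Subtype.ext (by simp [hpol, hsm, hb.smul_right])⟩, fun v hv => ?_⟩
  have hv' : raise v ≠ 0 := fun e => hv (funext fun i => Subtype.ext (congrFun e i))
  obtain ⟨i, hi⟩ := Function.ne_iff.1 (formVec_ne_zero (bil S.quad) S.quad.nondegenerate hv')
  simp only [Pi.zero_apply] at hi
  have he : raise (Pi.single i 1 : ι → F₀) = (Pi.single i 1 : Vec) := funext fun j => by
    by_cases h : j = i
    · subst h; simp [raise]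
    · simp [raise, h]
  refine ⟨⟨Pi.single i 1, fun e => hi ?_⟩, ⟨Pi.single i 1, fun e => hi ?_⟩⟩
  · have := congrArg (fun z : F₀ => (z : F)) e
    simpa [hpol, he, formVec] using this
  · have := congrArg (fun z : F₀ => (z : F)) e
    rw [hpol, he, B_comm] at this
    simpa [formVec] using this

omit S in
theorem raise_not_mem {l : ℕ} (t : Fin l → Vec) (ht : ∀ i, Rat F₀ (t i)) {z : ι → F₀}
    (hz : z ∉ Submodule.span F₀ (Set.range fun i => lower (t i) (ht i))) :
    raise z ∉ Submodule.span F (Set.range t) := by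
  intro hmem
  obtain ⟨χ, hχ, hχz⟩ := exists_functional hz
  rw [Submodule.mem_span_range_iff_exists_fun] at hmem
  obtain ⟨c, hc⟩ := hmem
  have h1 : raise χ ⬝ᵥ raise z = 0 := by
    rw [← hc, dotProduct_sum]
    refine Finset.sum_eq_zero fun i _ => ?_
    rw [dotProduct_smul, show t i = raise (lower (t i) (ht i)) from rfl, raise_dot,
      hχ _ (Submodule.subset_span ⟨i, rfl⟩)]
    simp
  rw [raise_dot, hχz] at h1
  simp at h1

/-- A rational singular vector orthogonal to rational vectors and outside their span. -/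
theorem sing [Finite F] {k l : ℕ} (s : Fin k → Vec) (hs : ∀ i, Rat F₀ (s i)) (t : Fin l → Vec)
    (ht : ∀ i, Rat F₀ (t i)) (h : k + l ≤ 7) :
    ∃ v, Rat F₀ v ∧ Q v = 0 ∧ (∀ i, B v (s i) = 0) ∧ v ∉ Submodule.span F (Set.range t) := by
  have hT : Module.finrank F₀ (Submodule.span F₀ (Set.range fun i => lower (t i) (ht i))) ≤ l :=
    (finrank_range_le_card _).trans (by simp)
  obtain ⟨v, hv, hvs, hvt⟩ := exists_sing S.isNondeg₀ (fun i => lower (s i) (hs i)) _
    (by have := S.card; omega : k + Module.finrank F₀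
      (Submodule.span F₀ (Set.range fun i => lower (t i) (ht i))) + 3 ≤ Fintype.card ι)
  refine ⟨raise v, rat_raise v, congrArg Subtype.val hv, fun i => ?_, raise_not_mem t ht hvt⟩
  have := congrArg Subtype.val (hvs i)
  simp [QuadraticMap.polar] at this
  rw [QuadraticMap.polar]
  exact this

/-- A rational singular vector with prescribed products against rational vectors. -/
theorem sing_one [Finite F] {k : ℕ} (s : Fin k → Vec) (hs : ∀ i, Rat F₀ (s i)) {z : Vec}
    (hz : Rat F₀ z) (hzn : z ∉ Submodule.span F (Set.range s)) (h : k ≤ 2) :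
    ∃ v, Rat F₀ v ∧ Q v = 0 ∧ (∀ i, B v (s i) = 0) ∧ B v z = 1 := by
  have hzn' : lower z hz ∉ Submodule.span F₀ (Set.range fun i => lower (s i) (hs i)) := by
    intro hmem
    apply hzn
    rw [Submodule.mem_span_range_iff_exists_fun] at hmem ⊢
    obtain ⟨c, hc⟩ := hmem
    refine ⟨fun i => (c i : F), funext fun l => ?_⟩
    have := congrArg (fun z : ι → F₀ => ((z l : F₀) : F)) hc
    simpa [lower, Finset.sum_apply] using this
  obtain ⟨v, hv, hvs, hvz⟩ := Cfsg.Agent.Lib.Subspaces.OrthSingular.exists_singular_any S.isNondeg₀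
    (fun i => lower (s i) (hs i)) hzn' (by have := S.card; omega)
  refine ⟨raise v, rat_raise v, congrArg Subtype.val hv, fun i => ?_, ?_⟩
  · have := congrArg Subtype.val (hvs i)
    simp [QuadraticMap.polar] at this
    rw [QuadraticMap.polar]
    exact this
  · have := congrArg Subtype.val hvz
    simp [QuadraticMap.polar] at this
    rw [QuadraticMap.polar]
    exact this

/-- A vector with rational products against rational vectors is rational. -/
theorem rat_of_ratB [Finite F] {w : Vec} (h : ∀ z, Rat F₀ z → B z w ∈ F₀) : Rat F₀ w := by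
  obtain ⟨x, hx, hxw⟩ := exists_rat_formVec (bil S.quad) S.quad.polar_bilinear.add_right
    S.quad.nondegenerate (fun u v hu hv => S.ratB hu hv)
    (r := formVec B w) (fun i => h _ (Rat.single i (one_mem _)))
  have : x = w := by
    by_contra hne
    obtain ⟨⟨y, hy⟩, -⟩ := S.quad.nondegenerate _ (sub_ne_zero.2 hne)
    apply hy
    rw [sub_right S.quad, ← formVec_dot (bil S.quad) x, hxw, formVec_dot (bil S.quad), sub_self]
  exact this ▸ hx

end Base

end Cfsg.Agent.Lib.OmegaTen.Subfield.OrthBasic
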