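import Mathlib.Algebra.Algebra.Subalgebra.IsSimpleOrder
import Cfsg.Agent.Lib.OmegaTen.Subfield.Orth
import Cfsg.Agent.Lib.SubfieldMax.TI
import Cfsg.Agent.Lib.SubfieldMax.Mem

/-!
Orthogonal subfield subgroups are maximal for prime degree: a Frobenius-complement argument in the case
without a good root element, spreading of root elements in the other case.
-/

set_option autoImplicit false

namespace Cfsg.Agent.Lib.OmegaTen.Subfield.OrthMax

open Matrix Cfsg.Agent.Lib.Subspaces.Transvection Cfsg.Agent.Lib.Subspaces.FormVec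
  Cfsg.Agent.Lib.Subspaces.OrthForm Cfsg.Agent.Lib.Subspaces.OrthLines
  Cfsg.Agent.Lib.SubfieldMax.Linear Cfsg.Agent.Lib.SubfieldMax.RatLin
  Cfsg.Agent.Lib.OmegaTen.Subfield.OrthBasic Cfsg.Agent.Lib.OmegaTen.Subfield.Orth
open Cfsg.Agent.Lib.SubfieldMax.Form (RatUpTo)
open Cfsg.Agent.Lib.Subspaces.OrthSingular (Full full_smul full_move)

variable {ι : Type} [Fintype ι] [DecidableEq ι] {F : Type*} [Field F] {F₀ : Subfield F}
  {Q : (ι → F) → F} {M : Subgroup (GL ι F)}

local notation "B" => QuadraticMap.polar Q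
local notation "Vec" => ι → F
local notation "Mat" => Matrix ι ι F

theorem rigid (S : Setting F₀ Q M) (hG : ¬ Good F₀ Q M) [Finite F] {g : GL ι F} (hg : g ∈ M) :
    RatUpTo F₀ g := by
  classical
  by_contra hcon
  have hQ := S.base.quad
  have hb := hQ.polar_bilinear
  obtain ⟨e₁, he₁, hs₁, -, he₁n⟩ := S.base.sing (k := 0) ![] (fun i => i.elim0) (l := 0) ![]
    (fun i => i.elim0) (by norm_num)
  have he₁0 : e₁ ≠ 0 := by simpa using he₁n
  obtain ⟨e₂, he₂, hs₂, he₂o, he₂n⟩ := S.base.sing ![e₁] (fun i => by fin_cases i; exact he₁)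
    ![e₁] (fun i => by fin_cases i; exact he₁) (by norm_num)
  have h21 : B e₂ e₁ = 0 := he₂o 0
  replace he₂n : e₂ ∉ Submodule.span F {e₁} := by simpa [Matrix.range_cons] using he₂n
  obtain ⟨e₃, he₃, hs₃, he₃o, he₃n⟩ := S.base.sing ![e₁, e₂] (fun i => by fin_cases i; exacts [he₁, he₂])
    ![e₁, e₂] (fun i => by fin_cases i; exacts [he₁, he₂]) (by norm_num)
  have h31 : B e₃ e₁ = 0 := he₃o 0
  have h32 : B e₃ e₂ = 0 := he₃o 1
  replace he₃n : e₃ ∉ Submodule.span F {e₁, e₂} := by simpa [Matrix.range_cons, Set.pair_comm] using he₃n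
  have he₃n1 : e₃ ∉ Submodule.span F {e₁} := fun h => he₃n (Submodule.span_mono (by simp) h)
  have h12 : B e₁ e₂ = 0 := by rw [B_comm]; exact h21
  have h13 : B e₁ e₃ = 0 := by rw [B_comm]; exact h31
  have h23 : B e₂ e₃ = 0 := by rw [B_comm]; exact h32
  set es : Fin 3 → Vec := ![e₁, e₂, e₃]
  have hes : ∀ i, Rat F₀ (es i) := fun i => by fin_cases i; exacts [he₁, he₂, he₃]
  set E : Submodule F Vec := Submodule.span F (Set.range es) with hEdef
  have h1E : e₁ ∈ E := Submodule.subset_span ⟨0, rfl⟩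
  have h2E : e₂ ∈ E := Submodule.subset_span ⟨1, rfl⟩
  have h3E : e₃ ∈ E := Submodule.subset_span ⟨2, rfl⟩
  have hE : ∀ u ∈ E, ∀ v ∈ E, B u v = 0 := by
    intro u hu v hv
    refine perp_span hQ (fun i => ?_) v hv
    rw [B_comm]
    refine perp_span hQ (fun j => ?_) u hu
    fin_cases i <;> fin_cases j <;>
      simp [es, B_self hQ, hs₁, hs₂, hs₃, h12, h13, h23, h21, h31, h32]
  have hEQ : ∀ u ∈ E, Q u = 0 := by
    intro u hu
    induction hu using Submodule.span_induction with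
    | mem x hx => obtain ⟨i, rfl⟩ := hx; fin_cases i; exacts [hs₁, hs₂, hs₃]
    | zero => exact Q_zero hQ
    | add x y hx hy hqx hqy => rw [Q_add (Q := Q), hqx, hqy, hE x hx y hy]; ring
    | smul c x _ hqx => rw [hQ.smul, hqx, mul_zero]
  set a₁ : Vec := (g : Mat) *ᵥ e₁
  set a₂ : Vec := (g : Mat) *ᵥ e₂
  have hP : ∀ z ∈ Submodule.span F {a₁, a₂}, ∀ (k : ℕ), k ≤ 5 → ∀ s : Fin k → Vec, (∀ i, Rat F₀ (s i)) →
      z ∈ Submodule.span F (Set.range s) → z = 0 := by
    intro z hz k hk s hs hzs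
    by_contra hz0
    exact hcon (S.rat_of_small hG hg he₁ he₂ hs₁ hs₂ h12 he₁0 he₂n hk s hs hz hz0 hzs)
  let W : Submodule F Vec := E ⊔ Submodule.span F {a₁, a₂}
  let K0 : Subgroup (GL ι F) :=
    { carrier := {x | ∀ v, (x : Mat) *ᵥ v - v ∈ W}
      one_mem' := fun v => by simp
      mul_mem' := fun {x y} hx hy v => by
        rw [gl_mul_mulVec, ← sub_add_sub_cancel _ ((y : Mat) *ᵥ v) v]
        exact W.add_mem (hx _) (hy v)
      inv_mem' := fun {x} hx v => by
        have := W.neg_mem (hx (((x⁻¹ : GL ι F) : Mat) *ᵥ v))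
        rwa [gl_mulVec_inv, neg_sub] at this }
  let K : Subgroup (GL ι F) := K0 ⊓ M
  have hinv : ∀ x : GL ι F, (∀ i j, (x : Mat) i j ∈ F₀) → ∀ i j, ((x⁻¹ : GL ι F) : Mat) i j ∈ F₀ := by
    intro x hx
    have hpow : ∀ k : ℕ, ∀ i j, ((x ^ k : GL ι F) : Mat) i j ∈ F₀ := by
      intro k
      induction k with
      | zero =>
        intro i j
        rw [pow_zero, Units.val_one]
        exact Rat.single (F₀ := F₀) j (one_mem _) i |> fun h => by
          simpa [Matrix.one_apply, Pi.single_apply] using h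
      | succ k ih =>
        intro i j
        rw [pow_succ, Units.val_mul, Matrix.mul_apply]
        exact sum_mem fun l _ => mul_mem (ih i l) (hx l j)
    have := hpow (orderOf x - 1)
    rwa [← inv_eq_of_mul_eq_one_right (show x * x ^ (orderOf x - 1) = 1 by
      rw [← pow_succ', Nat.sub_add_cancel (orderOf_pos x), pow_orderOf_eq_one])] at this
  let Qg : Subgroup K :=
    { carrier := {x | (∀ i j, ((x : GL ι F) : Mat) i j ∈ F₀) ∧ ∀ v, ((x : GL ι F) : Mat) *ᵥ v - v ∈ E}
      one_mem' := ⟨fun i j => by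
        by_cases h : i = j
        · subst h; simp
        · simp [h], fun v => by simp⟩
      mul_mem' := by
        rintro x y ⟨hx, hx'⟩ ⟨hy, hy'⟩
        refine ⟨fun i j => ?_, fun v => ?_⟩
        · rw [Subgroup.coe_mul, Units.val_mul, Matrix.mul_apply]
          exact sum_mem fun l _ => mul_mem (hx i l) (hy l j)
        · rw [Subgroup.coe_mul, gl_mul_mulVec, ← sub_add_sub_cancel _ (((y : GL ι F) : Mat) *ᵥ v) v]
          exact E.add_mem (hx' _) (hy' v)
      inv_mem' := by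
        rintro x ⟨hx, hx'⟩
        refine ⟨?_, fun v => ?_⟩
        · rw [Subgroup.coe_inv]; exact hinv _ hx
        · have := E.neg_mem (hx' ((((x : GL ι F)⁻¹ : GL ι F) : Mat) *ᵥ v))
          rwa [gl_mulVec_inv, neg_sub] at this }
  have hfix : ∀ x ∈ Qg, ∀ u ∈ E, ((x : GL ι F) : Mat) *ᵥ u = u := by
    intro x hx u hu
    by_contra hne
    obtain ⟨⟨v, hv⟩, -⟩ := hQ.nondegenerate _ (sub_ne_zero.2 hne)
    apply hv
    have hmem : ((x : GL ι F) : Mat) *ᵥ u ∈ E := by
      have := E.add_mem (hx.2 u) hu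
      rwa [sub_add_cancel] at this
    have h2 := hE _ (hx.2 v) _ hmem
    rw [form_sub_left (bil hQ), B_map (S.iso _ x.2.2), sub_eq_zero] at h2
    rw [sub_right hQ, ← h2, sub_self]
  have hcomm : IsMulCommutative Qg := ⟨⟨fun x y => by
    apply Subtype.ext; apply Subtype.ext
    refine gl_ext fun v => ?_
    simp only [Subgroup.coe_mul, gl_mul_mulVec]
    have h1 := hfix _ x.2 _ (y.2.2 v)
    have h2 := hfix _ y.2 _ (x.2.2 v)
    rw [mulVec_sub] at h1 h2
    linear_combination (norm := abel_nf) h1 - h2⟩⟩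
  obtain ⟨p, hp⟩ := CharP.exists F
  haveI : Fact p.Prime := ⟨(CharP.char_is_prime_or_zero F p).resolve_right (CharP.char_ne_zero_of_finite F p)⟩
  have hpow : ∀ x ∈ Qg, ∀ (k : ℕ) (v : Vec),
      (((x : GL ι F) ^ k : GL ι F) : Mat) *ᵥ v = v + (k : F) • (((x : GL ι F) : Mat) *ᵥ v - v) := by
    intro x hx k
    induction k with
    | zero => intro v; simp
    | succ k ih =>
      intro v
      rw [pow_succ', gl_mul_mulVec, ih, mulVec_add, mulVec_smul, hfix x hx _ (hx.2 v), Nat.cast_succ,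
        add_smul, one_smul]
      abel
  have hord : ∀ x : Qg, x ^ p = 1 := by
    rintro ⟨x, hx⟩
    refine Subtype.ext (Subtype.ext (gl_ext fun v => ?_))
    simp only [SubmonoidClass.coe_pow, OneMemClass.coe_one]
    rw [hpow x hx p v, CharP.cast_eq_zero, zero_smul, add_zero, Units.val_one, one_mulVec]
  have hQp : IsPGroup p Qg := fun x => ⟨1, by rw [pow_one]; exact hord x⟩
  -- rational elements of `K` lie in `Qg`
  have hKQ : ∀ x : K, RatUpTo F₀ (x : GL ι F) → x ∈ Qg := by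
    rintro ⟨x, hxK0, hxM⟩ ⟨c, hc, hx⟩
    have hdiff : ∀ v : Vec, Rat F₀ v → (x : Mat) *ᵥ v - v ∈ E := by
      intro v hv
      obtain ⟨u, hu, z, hz, huz⟩ := Submodule.mem_sup.1 (hxK0 v)
      set s : Fin 5 → Vec := Fin.cons v (Fin.cons (c • ((x : Mat) *ᵥ v)) es)
      have hmono : E ≤ Submodule.span F (Set.range s) :=
        Submodule.span_mono (by rintro _ ⟨i, rfl⟩; exact ⟨i.succ.succ, by simp [s]⟩)
      have hzs : z ∈ Submodule.span F (Set.range s) := by
        rw [show z = c⁻¹ • (c • ((x : Mat) *ᵥ v)) - v - u by rw [inv_smul_smul₀ hc, ← huz]; abel]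
        refine Submodule.sub_mem _ (Submodule.sub_mem _ (Submodule.smul_mem _ _ ?_) ?_) (hmono hu)
        · exact Submodule.subset_span ⟨(0 : Fin 4).succ, by simp [s]⟩
        · exact Submodule.subset_span ⟨0, rfl⟩
      have h0 := hP z hz 5 (by norm_num) s
        (fun i => Fin.cases hv (fun j => Fin.cases (rat_mulVec hx hv) hes j) i) hzs
      rw [← huz, h0, add_zero]
      exact hu
    have hall : ∀ v, (x : Mat) *ᵥ v - v ∈ E := by
      intro v
      have hv : v = ∑ i, v i • (Pi.single i 1 : Vec) := by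
        conv_lhs => rw [← Finset.univ_sum_single v]
        exact Finset.sum_congr rfl fun i _ => by rw [← Pi.single_smul, smul_eq_mul, mul_one]
      rw [hv, mulVec_sum, ← Finset.sum_sub_distrib]
      refine E.sum_mem fun i _ => ?_
      rw [mulVec_smul, ← smul_sub]
      exact E.smul_mem _ (hdiff _ (Rat.single i (one_mem _)))
    obtain ⟨w, hw, -, hwo, hwn⟩ := S.base.sing es hes (l := 0) ![] (fun i => i.elim0) (by norm_num)
    have hw0 : w ≠ 0 := by simpa using hwn
    obtain ⟨j, hj⟩ := Function.ne_iff.1 (formVec_ne_zero (bil hQ) hQ.nondegenerate hw0)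
    have hcF : c ∈ F₀ := by
      have h1 : B w ((x : Mat) *ᵥ Pi.single j 1 - Pi.single j 1) = 0 := perp_span hQ hwo _ (hall _)
      rw [sub_right hQ, sub_eq_zero] at h1
      have h7 := S.base.ratB hw (rat_mulVec hx (Rat.single j (one_mem _)))
      rw [hb.smul_right, h1] at h7
      have h8 : B w (Pi.single j 1) ∈ F₀ := S.base.ratB hw (Rat.single j (one_mem _))
      have := mul_mem h7 (inv_mem h8)
      rwa [mul_assoc, mul_inv_cancel₀ (show B w (Pi.single j 1) ≠ 0 by rw [B_comm]; exact hj), mul_one] at this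
    refine ⟨fun i l => ?_, hall⟩
    have := mul_mem (inv_mem hcF) (hx i l)
    rwa [← mul_assoc, inv_mul_cancel₀ hc, one_mul] at this
  have hTI : ∀ k : K, ∀ q ∈ Qg, q ≠ 1 → k * q * k⁻¹ ∈ Qg → k ∈ Qg := by
    intro k q hq hq1 hq'
    apply hKQ
    obtain ⟨j, hj⟩ : ∃ j, ((q : GL ι F) : Mat) *ᵥ Pi.single j 1 ≠ Pi.single j 1 := by
      by_contra h
      push Not at h
      refine hq1 (Subtype.ext (Units.ext (Matrix.ext fun i j => ?_)))
      have := congrFun (h j) i
      simpa [Matrix.one_apply, Pi.single_apply] using this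
    set u : Vec := ((q : GL ι F) : Mat) *ᵥ Pi.single j 1 - Pi.single j 1
    have hu : Rat F₀ u := fun i => by
      show ((((q : GL ι F) : Mat) *ᵥ Pi.single j 1 - Pi.single j 1 : Vec)) i ∈ F₀
      rw [Pi.sub_apply, mulVec_single_one]
      exact sub_mem (hq.1 i j) (Rat.single j (one_mem _) i)
    have huE : u ∈ E := hq.2 _
    have hu0 : u ≠ 0 := sub_ne_zero.2 hj
    have hku : ((k : GL ι F) : Mat) *ᵥ u ∈ E := by
      have := hq'.2 (((k : GL ι F) : Mat) *ᵥ Pi.single j 1)
      rwa [Subgroup.coe_mul, Subgroup.coe_mul, Subgroup.coe_inv, gl_mul_mulVec, gl_inv_mulVec, gl_mul_mulVec,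
        ← mulVec_sub] at this
    obtain ⟨y, hy, hy0, hyo, hyn⟩ := S.base.sing ![u] (fun i => by fin_cases i; exact hu)
      ![u] (fun i => by fin_cases i; exact hu) (by norm_num)
    exact S.rat_of_small hG k.2.2 hu hy (hEQ u huE) hy0 (by rw [B_comm]; exact hyo 0) hu0
      (by simpa [Matrix.range_cons] using hyn) (k := 3) (by norm_num) es hes
      (Submodule.subset_span (Set.mem_insert _ _))
      (fun e => hu0 (gl_mulVec_injective (k : GL ι F) (by simpa using e))) hku
  set Tg : GL ι F := sieg Q e₁ e₂ with hTg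
  have hTgM : Tg ∈ M := S.hT e₁ e₂ he₁ he₂ hs₁ h21
  have hdev : ∀ (e : Vec), Rat F₀ e → Q e = 0 → B e e₁ = 0 → e ∈ E → sieg Q e₁ e ∈ M ∧
      (∀ i j, (sieg Q e₁ e : Mat) i j ∈ F₀) ∧ ∀ v, (sieg Q e₁ e : Mat) *ᵥ v - v ∈ E := by
    intro e he he0 heo heE
    refine ⟨S.hT e₁ e he₁ he hs₁ heo, S.base.rat_sieg he₁ he hs₁ heo, fun v => ?_⟩
    rw [lsieg_mulVec hQ hs₁ he0 (by rw [B_comm]; exact heo), add_assoc, add_sub_cancel_left]
    exact E.add_mem (E.smul_mem _ heE) (E.smul_mem _ h1E)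
  have hgTg : g * Tg * g⁻¹ ∈ K := by
    refine ⟨fun v => ?_, M.mul_mem (M.mul_mem hg hTgM) (M.inv_mem hg)⟩
    rw [hTg, conj_sieg hQ (S.iso g hg) hs₁ h21,
      lsieg_mulVec hQ (by rw [S.iso g hg, hs₁]) (by rw [S.iso g hg, hs₂]) (by rw [B_map (S.iso g hg), h12]),
      add_assoc, add_sub_cancel_left]
    refine Submodule.mem_sup_right (Submodule.add_mem _ ?_ ?_)
    · exact Submodule.smul_mem _ _ (Submodule.subset_span (by simp [a₂]))
    · exact Submodule.smul_mem _ _ (Submodule.subset_span (by simp [a₁]))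
  have hne : Qg ≠ ⊤ := fun htop => by
    obtain ⟨-, hE'⟩ : (⟨_, hgTg⟩ : K) ∈ Qg := htop ▸ Subgroup.mem_top _
    have he₁n2 : e₁ ∉ Submodule.span F (Set.range ![e₂]) := fun h => by
      simp only [Matrix.range_cons, Matrix.range_empty, Set.union_empty, Submodule.mem_span_singleton] at h
      obtain ⟨d, hd⟩ := h
      have hd0 : d ≠ 0 := fun e => he₁0 (by rw [← hd, e, zero_smul])
      exact he₂n (Submodule.mem_span_singleton.2 ⟨d⁻¹, by rw [← hd, inv_smul_smul₀ hd0]⟩)
    obtain ⟨w, hw, -, hwo, hw1⟩ := S.base.sing_one ![e₂] (fun i => by fin_cases i; exact he₂) he₁ he₁n2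
      (by norm_num)
    have hw2 : B w e₂ = 0 := hwo 0
    have h := hE' ((g : Mat) *ᵥ w)
    rw [gl_mul_mulVec, gl_inv_mulVec, gl_mul_mulVec, ← mulVec_sub, hTg, lsieg_mulVec hQ hs₁ hs₂ h12, hw1,
      hw2, neg_zero, zero_smul, add_zero, one_smul, add_sub_cancel_left] at h
    have h0 := hP _ (Submodule.subset_span (show a₂ ∈ ({a₁, a₂} : Set Vec) by simp)) 3 (by norm_num) es hes h
    exact he₂n (by
      rw [show e₂ = 0 from gl_mulVec_injective g (by simpa [a₂] using h0)]
      exact Submodule.zero_mem _)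
  obtain ⟨hTM, hTR, hTE⟩ := hdev e₂ he₂ hs₂ h21 h2E
  obtain ⟨hqM, hqR, hqE⟩ := hdev e₃ he₃ hs₃ h31 h3E
  have hTgK : Tg ∈ K := ⟨fun v => Submodule.mem_sup_left (hTE v), hTgM⟩
  have hqK : sieg Q e₁ e₃ ∈ K := ⟨fun v => Submodule.mem_sup_left (hqE v), hqM⟩
  let T : Qg := ⟨⟨Tg, hTgK⟩, ⟨hTR, hTE⟩⟩
  let q : Qg := ⟨⟨_, hqK⟩, ⟨hqR, hqE⟩⟩
  have hT1 : T ≠ 1 := fun h => by
    have he₁n2 : e₁ ∉ Submodule.span F (Set.range ![e₂]) := fun h => by
      simp only [Matrix.range_cons, Matrix.range_empty, Set.union_empty, Submodule.mem_span_singleton] at h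
      obtain ⟨d, hd⟩ := h
      have hd0 : d ≠ 0 := fun e => he₁0 (by rw [← hd, e, zero_smul])
      exact he₂n (Submodule.mem_span_singleton.2 ⟨d⁻¹, by rw [← hd, inv_smul_smul₀ hd0]⟩)
    obtain ⟨w, hw, -, hwo, hw1⟩ := S.base.sing_one ![e₂] (fun i => by fin_cases i; exact he₂) he₁ he₁n2
      (by norm_num)
    have hw2 : B w e₂ = 0 := hwo 0
    have h' := congrArg (fun z : Qg => ((z : K) : GL ι F).val *ᵥ w) h
    simp only [T, hTg, lsieg_mulVec hQ hs₁ hs₂ h12, hw1, hw2, OneMemClass.coe_one, Units.val_one,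
      one_mulVec, neg_zero, zero_smul, add_zero, one_smul, add_eq_left] at h'
    exact he₂n (h' ▸ Submodule.zero_mem _)
  have hbot : Qg ≠ ⊥ := fun hb => hT1 (Subtype.ext (Subgroup.mem_bot.1 (hb ▸ T.2)))
  haveI := Cfsg.Agent.Lib.SubfieldMax.TI.isCyclic_of_ti Qg hQp hcomm hne hbot hTI
  obtain ⟨gen, hgen⟩ := IsCyclic.exists_generator (α := Qg)
  have hTord : orderOf T = p := orderOf_eq_prime (hord T) hT1
  have hcard : Nat.card Qg = orderOf gen := (orderOf_eq_card_of_forall_mem_zpowers hgen).symm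
  have hz : Subgroup.zpowers T = ⊤ := by
    refine Subgroup.eq_top_of_le_card _ ?_
    rw [Nat.card_zpowers, hTord, hcard]
    exact Nat.le_of_dvd (Fact.out : p.Prime).pos (orderOf_dvd_of_pow_eq_one (hord gen))
  obtain ⟨k, hk⟩ := (isOfFinOrder_of_finite T).mem_powers_iff_mem_zpowers.2 (hz ▸ Subgroup.mem_top q)
  obtain ⟨w, hw, -, hwo, hw3⟩ := S.base.sing_one ![e₁, e₂] (fun i => by fin_cases i; exacts [he₁, he₂]) he₃
    (by rwa [Matrix.range_cons_cons_empty]) (by norm_num)
  have hw1 : B w e₁ = 0 := hwo 0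
  have hw2 : B w e₂ = 0 := hwo 1
  have h := congrArg (fun z : Qg => ((z : K) : GL ι F).val *ᵥ w) hk
  simp only [SubmonoidClass.coe_pow] at h
  rw [hpow _ T.2 k w] at h
  simp only [T, q, hTg, lsieg_mulVec hQ hs₁ hs₂ h12, lsieg_mulVec hQ hs₁ hs₃ h13, hw1, hw2, hw3, neg_zero,
    zero_smul, add_zero, sub_self, smul_zero, left_eq_add, neg_smul, one_smul, neg_eq_zero] at h
  exact he₁0 h

section Good

variable (S : Setting F₀ Q M)
include S

/-- The commutator step for root elements. -/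
theorem step {a b c c' : Vec} (ha : Q a = 0) (hb' : Q b = 0) (hc : Q c = 0) (hc' : Q c' = 0)
    (hab : B a b = 0) (hac : B a c = 0) (hac' : B a c' = 0) (hbc : B b c = 0) (hbc' : B b c' = 0)
    (hcc' : B c c' = 1) {k l : F} (h1 : sieg Q (k • a) c ∈ M) (h2 : sieg Q (l • c') b ∈ M) :
    sieg Q ((k * l) • a) b ∈ M := by
  have hQ := S.base.quad
  have hb := hQ.polar_bilinear
  have hka : Q (k • a) = 0 := by rw [hQ.smul, ha, mul_zero]
  have hlc' : Q (l • c') = 0 := by rw [hQ.smul, hc', mul_zero]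
  have hlc'b : B (l • c') b = 0 := by rw [hb.smul_left, B_comm, hbc', mul_zero]
  have hh : ∀ x, (sieg Q (l • c') b : Mat) *ᵥ x = x + B x (l • c') • b + (-B x b) • (l • c') :=
    lsieg_mulVec hQ hlc' hb' hlc'b
  have hm := sieg_shift_mem hQ h2 (S.iso _ h2) hka (by rw [hb.smul_right, B_comm, hac, mul_zero])
    (by rw [hh, hb.smul_left, hb.smul_left, hb.smul_right, hac', hab]; simp) h1
  rw [hh, add_assoc, add_sub_cancel_left, hb.smul_right, hcc', B_comm c b, hbc, neg_zero, zero_smul, add_zero,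
    mul_one, ← lsieg_smul hQ hka hb' (by rw [hb.smul_left, hab, mul_zero]), smul_smul, mul_comm] at hm
  exact hm

theorem pair_move [Finite F] {a b c : Vec} {k : F} (ha : Rat F₀ a) (hb' : Rat F₀ b) (hc : Rat F₀ c)
    (ha0 : Q a = 0) (hb0 : Q b = 0) (hc0 : Q c = 0) (hab : B a b = 0) (hac : B a c = 0) (hbc : B b c = 0)
    (hcn : c ∉ Submodule.span F {a, b}) (h : sieg Q (k • a) c ∈ M) : sieg Q (k • a) b ∈ M := by
  obtain ⟨c', hc', hc'0, hc'o, hc'c⟩ := S.base.sing_one ![a, b] (fun i => by fin_cases i; exacts [ha, hb'])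
    hc (by rwa [Matrix.range_cons_cons_empty]) (by norm_num)
  have h2 := S.hT c' b hc' hb' hc'0 (by rw [B_comm]; exact hc'o 1)
  rw [← one_smul F c'] at h2
  have := step S ha0 hb0 hc0 hc'0 hab hac (by rw [B_comm]; exact hc'o 0) hbc (by rw [B_comm]; exact hc'o 1)
    (by rw [B_comm]; exact hc'c) h h2
  rwa [mul_one] at this

theorem pair_any [Finite F] {a b c : Vec} {k : F} (ha : Rat F₀ a) (hb' : Rat F₀ b) (hc : Rat F₀ c)
    (ha0 : Q a = 0) (hb0 : Q b = 0) (hc0 : Q c = 0) (hab : B a b = 0) (hac : B a c = 0)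
    (hcn : c ∉ Submodule.span F {a}) (h : sieg Q (k • a) c ∈ M) : sieg Q (k • a) b ∈ M := by
  obtain ⟨d, hd, hd0, hdo, hdn⟩ := S.base.sing ![a, b, c] (fun i => by fin_cases i; exacts [ha, hb', hc])
    ![a, b, c] (fun i => by fin_cases i; exacts [ha, hb', hc]) (by norm_num)
  have hda : B d a = 0 := hdo 0
  have hdb : B d b = 0 := hdo 1
  have hdc : B d c = 0 := hdo 2
  rw [range3] at hdn
  have hcn' : c ∉ Submodule.span F {a, d} := fun hm => by
    obtain ⟨s, t, hst⟩ := Submodule.mem_span_pair.1 hm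
    by_cases ht : t = 0
    · exact hcn (Submodule.mem_span_singleton.2 ⟨s, by rw [← hst, ht, zero_smul, add_zero]⟩)
    · refine hdn ((Submodule.smul_mem_iff _ ht).1 ?_)
      rw [show t • d = c - s • a by rw [← hst, add_sub_cancel_left]]
      exact Submodule.sub_mem _ (Submodule.subset_span (by simp))
        (Submodule.smul_mem _ _ (Submodule.subset_span (by simp)))
  have h1 := pair_move S ha hd hc ha0 hd0 hc0 (by rw [B_comm]; exact hda) hac hdc hcn' h
  exact pair_move S ha hb' hd ha0 hb0 hd0 hab (by rw [B_comm]; exact hda) (by rw [B_comm]; exact hdb)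
    (fun hm => hdn (Submodule.span_mono (by simp [Set.insert_subset_iff]) hm)) h1

theorem pair_all [Finite F] {a b a' b' : Vec} {k : F} (ha : Rat F₀ a) (hb' : Rat F₀ b) (ha' : Rat F₀ a')
    (hb'' : Rat F₀ b') (ha0 : Q a = 0) (hb0 : Q b = 0) (ha'0 : Q a' = 0) (hb'0 : Q b' = 0)
    (hab : B a b = 0) (ha'b' : B a' b' = 0) (han : a ≠ 0) (hbn : b ∉ Submodule.span F {a}) (ha'n : a' ≠ 0)
    (h : sieg Q (k • a) b ∈ M) : sieg Q (k • a') b' ∈ M := by
  have hQ := S.base.quad
  obtain ⟨d, hd, hd0, hdo, hdn⟩ := S.base.sing ![a, a'] (fun i => by fin_cases i; exacts [ha, ha'])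
    ![a, a'] (fun i => by fin_cases i; exacts [ha, ha']) (by norm_num)
  rw [Matrix.range_cons_cons_empty] at hdn
  have hda : B d a = 0 := hdo 0
  have hda' : B d a' = 0 := hdo 1
  have hsym : ∀ v, v ≠ 0 → d ∉ Submodule.span F {v} → v ∉ Submodule.span F {d} := fun v hv0 h hmem => by
    obtain ⟨s, hs⟩ := Submodule.mem_span_singleton.1 hmem
    have hs0 : s ≠ 0 := fun e => hv0 (by rw [← hs, e, zero_smul])
    exact h (Submodule.mem_span_singleton.2 ⟨s⁻¹, by rw [← hs, inv_smul_smul₀ hs0]⟩)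
  have hswap : ∀ {x y : Vec} {k : F}, Q x = 0 → Q y = 0 → B x y = 0 → sieg Q (k • x) y ∈ M →
      sieg Q ((-k) • y) x ∈ M := fun {x y k} hx hy hxy h => by
    rw [lsieg_smul hQ hy hx (by rw [B_comm]; exact hxy), lsieg_swap hQ hy hx (by rw [B_comm]; exact hxy),
      neg_neg, ← lsieg_smul hQ hx hy hxy]
    exact h
  have h1 := hswap ha0 hd0 (by rw [B_comm]; exact hda)
    (pair_any S ha hd hb' ha0 hd0 hb0 (by rw [B_comm]; exact hda) hab hbn h)
  have h2 := hswap hd0 ha'0 hda' (pair_any S hd ha' ha hd0 ha'0 ha0 hda' hda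
    (hsym a han fun hm => hdn (Submodule.span_mono (by simp) hm)) h1)
  rw [neg_neg] at h2
  exact pair_any S ha' hb'' hd ha'0 hb'0 hd0 ha'b' (by rw [B_comm]; exact hda')
    (fun hm => hdn (Submodule.span_mono (by simp) hm)) h2

theorem full_of_good [Finite F] {r : ℕ} (hr : r.Prime) (hcard : Nat.card F = Nat.card F₀ ^ r)
    (hG : Good F₀ Q M) : ∀ z : Vec, Q z = 0 → Full Q M z := by
  have hQ := S.base.quad
  have hb := hQ.polar_bilinear
  obtain ⟨a, b, k, ha, hb', ha0, hb0, hab, han, hbn, hk, hm⟩ := hG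
  let D : Subalgebra F₀ F :=
    { carrier := {l | ∀ x y, Rat F₀ x → Rat F₀ y → Q x = 0 → Q y = 0 → B x y = 0 → x ≠ 0 →
        y ∉ Submodule.span F {x} → sieg Q (l • x) y ∈ M}
      add_mem' := fun {s t} hs ht x y hx hy hx0 hy0 hxy hxn hyn => by
        have h1 := hs x y hx hy hx0 hy0 hxy hxn hyn
        have h2 := ht x y hx hy hx0 hy0 hxy hxn hyn
        rw [lsieg_smul hQ hx0 hy0 hxy] at h1 h2 ⊢
        rw [add_smul, sieg_add_right hQ hx0 (by rw [hb.smul_left, B_comm, hxy, mul_zero])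
          (by rw [hb.smul_left, B_comm, hxy, mul_zero])]
        exact M.mul_mem h1 h2
      mul_mem' := fun {s t} hs ht x y hx hy hx0 hy0 hxy hxn hyn => by
        obtain ⟨c, hc, hc0, hco, hcn⟩ := S.base.sing ![x, y] (fun i => by fin_cases i; exacts [hx, hy])
          ![x, y] (fun i => by fin_cases i; exacts [hx, hy]) (by norm_num)
        obtain ⟨c', hc', hc'0, hc'o, hc'c⟩ := S.base.sing_one ![x, y]
          (fun i => by fin_cases i; exacts [hx, hy]) hc hcn (by norm_num)
        rw [Matrix.range_cons_cons_empty] at hcn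
        have hxc : B x c = 0 := by rw [B_comm]; exact hco 0
        have hyc : B y c = 0 := by rw [B_comm]; exact hco 1
        have hc'y : B c' y = 0 := hc'o 1
        refine step S hx0 hy0 hc0 hc'0 hxy hxc (by rw [B_comm]; exact hc'o 0) hyc
          (by rw [B_comm]; exact hc'y) (by rw [B_comm]; exact hc'c)
          (hs x c hx hc hx0 hc0 hxc hxn fun hm => hcn (Submodule.span_mono (by simp) hm))
          (ht c' y hc' hy hc'0 hy0 hc'y ?_ ?_)
        · intro e
          rw [e, form_zero_left (bil hQ)] at hc'c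
          exact zero_ne_one hc'c
        · intro hm
          obtain ⟨d, rfl⟩ := Submodule.mem_span_singleton.1 hm
          rw [hb.smul_left, hc'c, mul_one] at hyc
          exact hyn (by rw [hyc, zero_smul]; exact Submodule.zero_mem _)
      algebraMap_mem' := fun l x y hx hy hx0 hy0 hxy _ _ =>
        S.hT _ y (hx.smul l.2) hy (by rw [hQ.smul, hx0, mul_zero]; )
          (by rw [hb.smul_right, B_comm, hxy, mul_zero]) }
  have hrank : Module.finrank F₀ F = r := by
    have h1 := Module.natCard_eq_pow_finrank (K := F₀) (V := F)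
    rw [hcard] at h1
    exact (Nat.pow_right_injective (Finite.one_lt_card (α := F₀)) h1).symm
  haveI := Subalgebra.isSimpleOrder_of_finrank_prime F₀ F (hrank ▸ hr)
  have hD : D = ⊤ := by
    refine (eq_bot_or_eq_top D).resolve_left fun hbot => hk ?_
    have hkD : k ∈ D := fun x y hx hy hx0 hy0 hxy hxn _ =>
      pair_all S ha hb' hx hy ha0 hb0 hx0 hy0 hab hxy han hbn hxn hm
    rw [hbot, Algebra.mem_bot] at hkD
    obtain ⟨x, rfl⟩ := hkD
    exact x.2
  have hDall : ∀ l : F, l ∈ D := fun l => hD ▸ Algebra.mem_top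
  -- rational singular centres are full
  have hrat : ∀ u, Rat F₀ u → Q u = 0 → u ≠ 0 → Full Q M u := by
    intro u hu hu0 hun
    have hsing : ∀ y, Rat F₀ y → Q y = 0 → B y u = 0 → ∀ t : F, sieg Q u (t • y) ∈ M := by
      intro y hy hy0 hyu t
      by_cases hyn : y ∈ Submodule.span F {u}
      · obtain ⟨d, rfl⟩ := Submodule.mem_span_singleton.1 hyn
        rw [smul_smul, sieg_self hQ hu0]
        exact M.one_mem
      · rw [← lsieg_smul hQ hu0 hy0 (by rw [B_comm]; exact hyu)]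
        exact hDall t u y hu hy hu0 hy0 (by rw [B_comm]; exact hyu) hun hyn
    let A : Submodule F Vec :=
      { carrier := {w | B w u = 0 ∧ ∀ t : F, sieg Q u (t • w) ∈ M}
        zero_mem' := ⟨form_zero_left (bil hQ) u, fun t => by
          rw [smul_zero, show (0 : Vec) = (0 : F) • u by rw [zero_smul], sieg_self hQ hu0]; exact M.one_mem⟩
        add_mem' := fun {v w} hv hw => ⟨by rw [hb.add_left, hv.1, hw.1, add_zero], fun t => by
          rw [smul_add, sieg_add_right hQ hu0 (by rw [hb.smul_left, hv.1, mul_zero])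
            (by rw [hb.smul_left, hw.1, mul_zero])]
          exact M.mul_mem (hv.2 t) (hw.2 t)⟩
        smul_mem' := fun c w hw => ⟨by rw [hb.smul_left, hw.1, mul_zero], fun t => by
          rw [smul_smul]; exact hw.2 _⟩ }
    refine ⟨hu0, fun w hw => ?_⟩
    have hle : Submodule.span F {z : Vec | Rat F₀ z ∧ B z u = 0} ≤ A := by
      rw [Submodule.span_le]
      rintro z ⟨hz, hzu⟩
      by_cases hzn : z ∈ Submodule.span F {u}
      · obtain ⟨d, rfl⟩ := Submodule.mem_span_singleton.1 hzn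
        exact ⟨hzu, fun t => by rw [smul_smul, sieg_self hQ hu0]; exact M.one_mem⟩
      obtain ⟨s, hs, hs0, hso, hsz⟩ := S.base.sing_one ![u] (fun i => by fin_cases i; exact hu) hz
        (by simpa [Matrix.range_cons] using hzn) (by norm_num)
      have hsu : B s u = 0 := hso 0
      have hr' : Rat F₀ (z + (-Q z) • s) := fun i =>
        add_mem (hz i) (mul_mem (neg_mem (S.base.rat z hz)) (hs i))
      have hru : B (z + (-Q z) • s) u = 0 := by rw [hb.add_left, hb.smul_left, hzu, hsu, mul_zero, add_zero]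
      have hrq : Q (z + (-Q z) • s) = 0 := by rw [Q_add_smul hQ, hs0, B_comm, hsz]; ring
      have h1 : z + (-Q z) • s ∈ A := ⟨hru, hsing _ hr' hrq hru⟩
      have h2 : Q z • s ∈ A := A.smul_mem _ (show s ∈ A from ⟨hsu, hsing s hs hs0 hsu⟩)
      have := A.add_mem h1 h2
      rwa [add_assoc, neg_smul, neg_add_cancel, add_zero] at this
    have := (hle (S.mem_span_rat hu hun hw)).2 1
    rwa [one_smul] at this
  intro z hz
  rcases eq_or_ne z 0 with rfl | hzn
  · obtain ⟨u, hu, hu0, -, hun⟩ := S.base.sing (k := 0) ![] (fun i => i.elim0) (l := 0) ![]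
      (fun i => i.elim0) (by norm_num)
    have := full_smul hQ (hrat u hu hu0 (by simpa using hun)) 0
    rwa [zero_smul] at this
  obtain ⟨v, hv, hv0, hvz⟩ : ∃ v, Rat F₀ v ∧ Q v = 0 ∧ B z v ≠ 0 := by
    by_contra hcon
    push Not at hcon
    obtain ⟨j, hj⟩ := Function.ne_iff.1 (formVec_ne_zero (bil hQ) hQ.nondegenerate hzn)
    simp only [Pi.zero_apply] at hj
    have he : Rat F₀ (Pi.single j 1 : Vec) := Rat.single j (one_mem _)
    obtain ⟨s, hs, hs0, -, hse⟩ := S.base.sing_one (k := 0) ![] (fun i => i.elim0) he (by simp) (by norm_num)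
    have h1 := hcon (Pi.single j 1 + (-Q (Pi.single j 1)) • s)
      (fun l => add_mem (he l) (mul_mem (neg_mem (S.base.rat _ he)) (hs l)))
      (by rw [Q_add_smul hQ, hs0, B_comm, hse]; ring)
    rw [hb.add_right, hb.smul_right, hcon s hs hs0, mul_zero, add_zero, B_comm] at h1
    exact hj h1
  have hvn : v ≠ 0 := fun e => hvz (by rw [e, zero_right hQ])
  obtain ⟨x, hx, hx0, -, hxv⟩ := S.base.sing_one (k := 0) ![] (fun i => i.elim0) hv (by simpa using hvn)
    (by norm_num)
  have hxn : x ≠ 0 := fun e => by rw [e, form_zero_left (bil hQ)] at hxv; exact zero_ne_one hxv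
  refine full_move hQ (full_smul hQ (hrat v hv hv0 hvn) (B z v)⁻¹) (full_smul hQ (hrat x hx hx0 hxn) (B z v))
    hz ?_ ?_
  · rw [hb.smul_left, hb.smul_right, hxv, mul_one, mul_inv_cancel₀ hvz]
  · rw [hb.smul_right, inv_mul_cancel₀ hvz]

end Good

end Cfsg.Agent.Lib.OmegaTen.Subfield.OrthMax
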